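import Mathlib
import Cfsg.Agent.Lib.Frobenius.Basic

/-!
Frobenius complements as groups with a fixed-point-free finite module.
-/

set_option autoImplicit false

namespace Cfsg.Agent.Lib.FrobRep

universe u v w

/-- `ρ` is fixed-point-free. -/
def IsFreeAction {H : Type u} [Group H] {V : Type v} [AddCommGroup V]
    (ρ : H →* AddMonoid.End V) : Prop :=
  ∀ h : H, h ≠ 1 → ∀ v : V, ρ h v = v → v = 0

/-- `H` has a nonzero finite fixed-point-free module killed by `s`. -/
def HasFreeModule (s : ℕ) (H : Type u) [Group H] : Prop :=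
  ∃ (V : Type) (_ : AddCommGroup V) (_ : Finite V) (_ : Nontrivial V) (ρ : H →* AddMonoid.End V),
    (∀ v : V, s • v = 0) ∧ IsFreeAction ρ

variable {H : Type u} [Group H]

theorem hasFreeModule_of {s : ℕ} {V : Type v} [AddCommGroup V] [Finite V] [Nontrivial V]
    (ρ : H →* AddMonoid.End V) (hs : ∀ v : V, s • v = 0) (hf : IsFreeAction ρ) :
    HasFreeModule s H := by
  let e : Shrink.{0} V ≃+ V :=
    { toEquiv := (equivShrink.{0} V).symm, map_add' := fun x y => equivShrink_symm_add x y }
  let σ : H →* AddMonoid.End (Shrink.{0} V) :=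
    { toFun := fun h => (e.symm.toAddMonoidHom.comp (ρ h)).comp e.toAddMonoidHom
      map_one' := AddMonoidHom.ext fun x => by
        show e.symm (ρ 1 (e x)) = x
        rw [map_one]; exact e.symm_apply_apply x
      map_mul' := fun a b => AddMonoidHom.ext fun x => by
        show e.symm (ρ (a * b) (e x)) = e.symm (ρ a (e (e.symm (ρ b (e x)))))
        rw [e.apply_symm_apply, map_mul]; rfl }
  refine ⟨Shrink.{0} V, inferInstance, inferInstance, e.toEquiv.nontrivial, σ,
    fun x => e.injective (by rw [map_nsmul, hs, map_zero]), fun h hh x hx => e.injective ?_⟩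
  have hx' : e.symm (ρ h (e x)) = x := hx
  rw [map_zero]
  refine hf h hh (e x) ?_
  conv_rhs => rw [← hx', e.apply_symm_apply]

theorem HasFreeModule.comap {s : ℕ} {K : Type v} [Group K] (f : K →* H) (hf : Function.Injective f)
    (h : HasFreeModule s H) : HasFreeModule s K := by
  obtain ⟨V, _, _, _, ρ, hs, hfree⟩ := h
  exact ⟨V, inferInstance, inferInstance, inferInstance, ρ.comp f, hs,
    fun k hk v hv => hfree (f k) (fun h1 => hk (hf (by rw [h1, map_one]))) v hv⟩

/-- A finite group with a nonzero finite fixed-point-free module is a Frobenius complement. -/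
theorem exists_complement_of_free [Finite H] [Nontrivial H] {V : Type v} [AddCommGroup V] [Finite V]
    [Nontrivial V] (ρ : H →* AddMonoid.End V) (hf : IsFreeAction ρ) :
    ∃ (L : Type) (_ : Group L) (_ : Finite L) (C : Subgroup L),
      Cfsg.IsFrobeniusComplement C ∧ Nonempty (H ≃* C) := by
  let φ : H →* MulAut (Multiplicative V) :=
    { toFun := fun h =>
        { toFun := fun x => Multiplicative.ofAdd (ρ h x.toAdd)
          invFun := fun x => Multiplicative.ofAdd (ρ h⁻¹ x.toAdd)
          left_inv := fun x => by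
            show Multiplicative.ofAdd (ρ h⁻¹ (ρ h x.toAdd)) = x
            rw [show ρ h⁻¹ (ρ h x.toAdd) = (ρ h⁻¹ * ρ h) x.toAdd from rfl, ← map_mul, inv_mul_cancel,
              map_one]
            rfl
          right_inv := fun x => by
            show Multiplicative.ofAdd (ρ h (ρ h⁻¹ x.toAdd)) = x
            rw [show ρ h (ρ h⁻¹ x.toAdd) = (ρ h * ρ h⁻¹) x.toAdd from rfl, ← map_mul, mul_inv_cancel,
              map_one]
            rfl
          map_mul' := fun x y => by
            show Multiplicative.ofAdd (ρ h (x.toAdd + y.toAdd)) = _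
            rw [map_add]; rfl }
      map_one' := MulEquiv.ext fun x => by
        show Multiplicative.ofAdd (ρ 1 x.toAdd) = x
        rw [map_one]; rfl
      map_mul' := fun a b => MulEquiv.ext fun x => by
        show Multiplicative.ofAdd (ρ (a * b) x.toAdd) = Multiplicative.ofAdd (ρ a (ρ b x.toAdd))
        rw [map_mul]; rfl }
  let L₀ := Multiplicative V ⋊[φ] H
  haveI : Finite L₀ := Finite.of_equiv _ SemidirectProduct.equivProd.symm
  let e : Shrink.{0} L₀ ≃* L₀ := Shrink.mulEquiv
  let j : H →* Shrink.{0} L₀ := e.symm.toMonoidHom.comp SemidirectProduct.inr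
  have hj : Function.Injective j := e.symm.injective.comp SemidirectProduct.inr_injective
  let k : Multiplicative V →* Shrink.{0} L₀ := e.symm.toMonoidHom.comp SemidirectProduct.inl
  have hk : Function.Injective k := e.symm.injective.comp SemidirectProduct.inl_injective
  refine ⟨Shrink.{0} L₀, inferInstance, inferInstance, j.range, ?_, ⟨MonoidHom.ofInjective hj⟩⟩
  let π : Shrink.{0} L₀ →* H := SemidirectProduct.rightHom.comp e.toMonoidHom
  have hker : k.range = π.ker := by
    ext x
    rw [MonoidHom.mem_ker, MonoidHom.mem_range]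
    constructor
    · rintro ⟨v, rfl⟩
      show SemidirectProduct.rightHom (e (e.symm (SemidirectProduct.inl v))) = 1
      rw [e.apply_symm_apply, SemidirectProduct.rightHom_inl]
    · intro hx
      refine ⟨(e x).left, e.injective ?_⟩
      show e (e.symm (SemidirectProduct.inl (e x).left)) = e x
      rw [e.apply_symm_apply]
      exact SemidirectProduct.ext rfl hx.symm
  haveI : k.range.Normal := hker ▸ inferInstance
  have hπj : ∀ h : H, π (j h) = h := fun h => by
    show SemidirectProduct.rightHom (e (e.symm (SemidirectProduct.inr h))) = h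
    rw [e.apply_symm_apply, SemidirectProduct.rightHom_inr]
  refine Cfsg.Agent.Lib.Frobenius.isFrobeniusComplement_of_fpf (K := k.range) ?_ ?_ ?_ ?_
  · refine Subgroup.isComplement'_of_disjoint_and_mul_eq_univ ?_ ?_
    · rw [disjoint_iff, eq_bot_iff]
      rintro x ⟨hx, h, rfl⟩
      replace hx : π (j h) = 1 := MonoidHom.mem_ker.mp (hker ▸ hx)
      rw [hπj] at hx
      simp [hx]
    · rw [Set.eq_univ_iff_forall]
      intro x
      refine ⟨x * (j (π x))⁻¹, ?_, j (π x), ⟨π x, rfl⟩, inv_mul_cancel_right _ _⟩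
      rw [SetLike.mem_coe, hker, MonoidHom.mem_ker, map_mul, map_inv, hπj, mul_inv_cancel]
  · rw [Ne, MonoidHom.range_eq_bot_iff]
    intro h1
    obtain ⟨a, ha⟩ := exists_ne (1 : Multiplicative V)
    exact ha (hk (by rw [h1]; simp))
  · rw [Ne, MonoidHom.range_eq_bot_iff]
    intro h1
    obtain ⟨a, ha⟩ := exists_ne (1 : H)
    exact ha (hj (by rw [h1]; simp))
  · rintro _ ⟨h, rfl⟩ hh
    rw [eq_bot_iff]
    rintro _ ⟨⟨v, rfl⟩, hc⟩
    have hcm := Subgroup.mem_centralizer_singleton_iff.mp hc
    have hh1 : h ≠ 1 := fun e1 => hh (by rw [e1, map_one])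
    have h2 : (SemidirectProduct.inl v * SemidirectProduct.inr h : L₀) =
        SemidirectProduct.inr h * SemidirectProduct.inl v := by
      have h2' := congrArg e hcm
      rw [map_mul, map_mul] at h2'
      have e1 : ∀ z : L₀, e (e.symm z) = z := e.apply_symm_apply
      calc (SemidirectProduct.inl v * SemidirectProduct.inr h : L₀)
          = e (k v) * e (j h) := (congrArg₂ (· * ·) (e1 _) (e1 _)).symm
        _ = e (j h) * e (k v) := h2'
        _ = _ := congrArg₂ (· * ·) (e1 _) (e1 _)
    have h3 : v * φ (1 : H) 1 = 1 * φ h v := congrArg SemidirectProduct.left h2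
    rw [map_one, mul_one, one_mul] at h3
    have hv : v.toAdd = 0 := hf h hh1 v.toAdd (by
      have := congrArg Multiplicative.toAdd h3
      simpa [φ] using this.symm)
    rw [Subgroup.mem_bot, show v = 1 from hv, map_one]

theorem HasFreeModule.exists_complement [Finite H] [Nontrivial H] {s : ℕ} (h : HasFreeModule s H) :
    ∃ (L : Type) (_ : Group L) (_ : Finite L) (C : Subgroup L),
      Cfsg.IsFrobeniusComplement C ∧ Nonempty (H ≃* C) := by
  obtain ⟨V, _, _, _, ρ, -, hf⟩ := h
  exact exists_complement_of_free ρ hf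

/-! ### Lattices -/

/-- A fixed-point-free lattice reduces to fixed-point-free modules modulo every prime
not dividing the group order. -/
theorem hasFreeModule_of_lattice [Finite H] {V : Type v} [AddCommGroup V] [AddGroup.FG V]
    [IsAddTorsionFree V] [Nontrivial V] (ρ : H →* AddMonoid.End V) (hf : IsFreeAction ρ)
    {s : ℕ} (hs : s.Prime) (hsH : ¬ s ∣ Nat.card H) : HasFreeModule s H := by
  classical
  let R : AddSubgroup V := (nsmulAddMonoidHom s : V →+ V).range
  haveI hfg : AddGroup.FG (V ⧸ R) := AddGroup.fg_of_surjective (QuotientAddGroup.mk'_surjective R)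
  have hkill : ∀ x : V ⧸ R, s • x = 0 := by
    intro x
    obtain ⟨x, rfl⟩ := QuotientAddGroup.mk_surjective x
    rw [← QuotientAddGroup.mk_nsmul, QuotientAddGroup.eq_zero_iff]
    exact ⟨x, rfl⟩
  haveI : Finite (V ⧸ R) := AddCommGroup.finite_of_fg_isAddTorsion _ fun x =>
    isOfFinAddOrder_iff_nsmul_eq_zero.mpr ⟨s, hs.pos, hkill x⟩
  haveI : Nontrivial (V ⧸ R) := by
    refine QuotientAddGroup.nontrivial_iff.mpr fun hR => ?_
    obtain ⟨v, hv⟩ := exists_ne (0 : V)
    haveI : Module.Finite ℤ V := Module.Finite.iff_addGroup_fg.mpr inferInstance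
    haveI : IsAddTorsionFree V := inferInstance
    haveI : Module.Free ℤ V := Module.free_of_finite_type_torsion_free'
    let b := Module.Free.chooseBasis ℤ V
    have hdiv : ∀ n : ℕ, ∃ x : V, (s ^ n) • x = v := by
      intro n
      induction n with
      | zero => exact ⟨v, by simp⟩
      | succ n ih =>
        obtain ⟨x, hx⟩ := ih
        obtain ⟨y, hy⟩ : x ∈ R := hR ▸ AddSubgroup.mem_top x
        exact ⟨y, by rw [pow_succ, mul_nsmul', show s • y = x from hy, hx]⟩
    obtain ⟨i, hi⟩ : ∃ i, b.repr v i ≠ 0 := by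
      by_contra hall
      push Not at hall
      exact hv (b.repr.map_eq_zero_iff.mp (Finsupp.ext hall))
    have hdvd : ∀ n : ℕ, s ^ n ∣ (b.repr v i).natAbs := by
      intro n
      obtain ⟨x, hx⟩ := hdiv n
      rw [← hx, map_nsmul, Finsupp.smul_apply, nsmul_eq_mul, Int.natAbs_mul, Int.natAbs_natCast]
      exact dvd_mul_right _ _
    exact absurd (Nat.le_of_dvd (Int.natAbs_pos.mpr hi) (hdvd (b.repr v i).natAbs))
      (not_le.mpr (Nat.lt_pow_self hs.one_lt))
  let σ : H →* AddMonoid.End (V ⧸ R) :=
    { toFun := fun h => QuotientAddGroup.map R R (ρ h) (by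
        rintro _ ⟨x, rfl⟩
        exact ⟨ρ h x, (map_nsmul (ρ h) s x).symm⟩)
      map_one' := AddMonoidHom.ext fun x => by
        obtain ⟨x, rfl⟩ := QuotientAddGroup.mk_surjective x
        show ((ρ 1 x : V) : V ⧸ R) = _
        rw [map_one]; rfl
      map_mul' := fun a b => AddMonoidHom.ext fun x => by
        obtain ⟨x, rfl⟩ := QuotientAddGroup.mk_surjective x
        show ((ρ (a * b) x : V) : V ⧸ R) = ((ρ a (ρ b x) : V) : V ⧸ R)
        rw [map_mul]; rfl }
  refine hasFreeModule_of σ hkill fun h hh x hx => ?_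
  obtain ⟨v, rfl⟩ := QuotientAddGroup.mk_surjective x
  set m := orderOf h with hm
  let S : V := ∑ i ∈ Finset.range m, ρ (h ^ i) v
  have hS : S = 0 := by
    refine hf h hh S ?_
    have h1 : ρ h S = ∑ i ∈ Finset.range m, ρ (h ^ (i + 1)) v := by
      simp only [S, map_sum]
      refine Finset.sum_congr rfl fun i _ => ?_
      rw [show ρ h (ρ (h ^ i) v) = (ρ h * ρ (h ^ i)) v from rfl, ← map_mul, ← pow_succ']
    have h3 := Finset.sum_range_succ (fun i => ρ (h ^ i) v) m
    rw [Finset.sum_range_succ' (fun i => ρ (h ^ i) v) m, pow_zero, hm, pow_orderOf_eq_one, ← hm] at h3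
    rw [h1]
    exact add_right_cancel h3
  have hmx : ∀ i : ℕ, ((ρ (h ^ i) v : V) : V ⧸ R) = (v : V ⧸ R) := by
    intro i
    induction i with
    | zero => rw [pow_zero, map_one]; rfl
    | succ i ih =>
      rw [pow_succ', map_mul]
      show σ h ((ρ (h ^ i) v : V) : V ⧸ R) = _
      rw [ih]; exact hx
  have hms : m • (v : V ⧸ R) = 0 := by
    have h4 : ((S : V) : V ⧸ R) = ∑ i ∈ Finset.range m, ((ρ (h ^ i) v : V) : V ⧸ R) :=
      map_sum (QuotientAddGroup.mk' R) _ _
    rw [hS, Finset.sum_congr rfl fun i _ => hmx i, Finset.sum_const, Finset.card_range,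
      QuotientAddGroup.mk_zero] at h4
    exact h4.symm
  refine AddMonoid.addOrderOf_eq_one_iff.mp (Nat.eq_one_of_dvd_coprimes
    ((hs.coprime_iff_not_dvd).mpr (fun hd => hsH (hd.trans (orderOf_dvd_natCard h))))
    (addOrderOf_dvd_of_nsmul_eq_zero (hkill _)) (addOrderOf_dvd_of_nsmul_eq_zero hms))

end Cfsg.Agent.Lib.FrobRep
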