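import Mathlib
import Cfsg.Agent.Lib.Frobenius.Kernel
import Cfsg.Agent.Lib.FrobRep.Basic

/-!
Every Frobenius complement has a fixed-point-free module.
-/

set_option autoImplicit false

namespace Cfsg.Agent.Lib.FrobRep

universe u

variable {L : Type u} [Group L]

theorem hasFreeModule_of_normalized {q : ℕ} (X A : Subgroup L) [Finite A]
    (hXA : X ≤ Subgroup.normalizer (A : Set L)) (hA : IsMulCommutative A) (hA1 : A ≠ ⊥)
    (hexp : ∀ a ∈ A, a ^ q = 1) (hfree : ∀ x ∈ X, x ≠ 1 → ∀ a ∈ A, x * a = a * x → a = 1) :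
    HasFreeModule q X := by
  letI : CommGroup A := { (inferInstance : Group A) with mul_comm := fun a b => mul_comm' a b }
  haveI : Nontrivial A := (Subgroup.nontrivial_iff_ne_bot A).mpr hA1
  let c : X → A →* A := fun x =>
    { toFun := fun a => ⟨(x : L) * a * (x : L)⁻¹, (Subgroup.mem_normalizer_iff.mp (hXA x.2) a).mp a.2⟩
      map_one' := Subtype.ext (by simp)
      map_mul' := fun a b => Subtype.ext (by simp [mul_assoc]) }
  let ρ : X →* AddMonoid.End (Additive A) :=
    { toFun := fun x => MonoidHom.toAdditive (c x)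
      map_one' := AddMonoidHom.ext fun a => Subtype.ext (by
        show ((1 : X) : L) * _ * ((1 : X) : L)⁻¹ = _
        rw [Subgroup.coe_one, one_mul, inv_one, mul_one]; rfl)
      map_mul' := fun x y => AddMonoidHom.ext fun a => Subtype.ext (by
        show ((x * y : X) : L) * _ * ((x * y : X) : L)⁻¹ = (x : L) * ((y : L) * _ * (y : L)⁻¹) * (x : L)⁻¹
        rw [Subgroup.coe_mul, mul_inv_rev]; simp only [mul_assoc]) }
  refine hasFreeModule_of ρ (fun a => ?_) fun x hx a ha => ?_
  · exact Subtype.ext (hexp _ (Additive.toMul a).2)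
  · have h1 : (x : L) * (Additive.toMul a).1 * (x : L)⁻¹ = (Additive.toMul a).1 :=
      congrArg Subtype.val ha
    exact Subtype.ext (hfree x x.2 (fun e => hx (Subtype.ext e)) _ (Additive.toMul a).2
      (mul_inv_eq_iff_eq_mul.mp h1))

/-- A finite Frobenius group has, for each prime divisor `q` of the kernel, a `q`-subgroup of the
kernel normalised by a copy of the complement acting fixed-point-freely. -/
theorem exists_invariant_sylow_kernel [Finite L] {C : Subgroup L} (hC : Cfsg.IsFrobeniusComplement C)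
    (q : ℕ) [Fact q.Prime] :
    ∃ (K : Subgroup L) (Q : Sylow q K) (X : Subgroup L), K.Normal ∧
      (K : Set L) = Cfsg.frobeniusKernel C ∧ K.IsComplement' C ∧ K.IsComplement' X ∧
      X ≤ Subgroup.normalizer (((Q : Subgroup K).map K.subtype : Subgroup L) : Set L) ∧
      Nonempty (C ≃* X) ∧ ∀ x ∈ X, x ≠ 1 → ∀ v ∈ K, x * v = v * x → v = 1 := by
  obtain ⟨K, hK, hKn, hKC⟩ := Cfsg.Agent.Lib.Frobenius.exists_kernel hC
  haveI := hKn
  let Q : Sylow q K := default
  set N := Subgroup.normalizer (((Q : Subgroup K).map K.subtype : Subgroup L) : Set L) with hN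
  have hsup : N ⊔ K = ⊤ := Sylow.normalizer_sup_eq_top Q
  have hcop : (Nat.card K).Coprime K.index := by
    rw [← hKC.index_eq_card, hKC.symm.index_eq_card, Nat.coprime_comm]
    exact Cfsg.Agent.Lib.Frobenius.coprime_card_index hC
  have hidx : (K.subgroupOf N).index = K.index := by
    show K.relIndex N = K.index
    rw [← Subgroup.relIndex_sup_right N K, hsup, Subgroup.relIndex_top_right]
  obtain ⟨X₀, hX₀⟩ := Subgroup.exists_right_complement'_of_coprime (N := K.subgroupOf N) (by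
    rw [hidx]
    refine hcop.coprime_dvd_left ?_
    rw [← Subgroup.inf_subgroupOf_right,
      Nat.card_congr (Subgroup.subgroupOfEquivOfLe (inf_le_right : K ⊓ N ≤ N)).toEquiv]
    exact Subgroup.card_dvd_of_le inf_le_left)
  set X := X₀.map N.subtype with hX
  have hXN : X ≤ N := Subgroup.map_subtype_le _
  have hXK : K ⊓ X = ⊥ := by
    rw [eq_bot_iff]
    rintro _ ⟨hv, x, hx, rfl⟩
    have : x ∈ K.subgroupOf N ⊓ X₀ := ⟨hv, hx⟩
    rw [disjoint_iff.mp hX₀.disjoint, Subgroup.mem_bot] at this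
    simp [this]
  have hKX : K.IsComplement' X := by
    refine Subgroup.isComplement'_of_card_mul_and_disjoint ?_ (disjoint_iff.mpr hXK)
    rw [hX, Subgroup.card_subtype, ← hX₀.symm.index_eq_card, hidx, Subgroup.card_mul_index]
  refine ⟨K, Q, X, hKn, hK, hKC, hKX, hXN,
    ⟨hKC.symm.QuotientMulEquiv.symm.trans hKX.symm.QuotientMulEquiv⟩, ?_⟩
  intro x hx hx1 v hv hxv
  have hxK : x ∉ Cfsg.frobeniusKernel C := by
    rw [← hK, SetLike.mem_coe]
    intro h
    exact hx1 (Subgroup.mem_bot.mp (hXK ▸ ⟨h, hx⟩))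
  obtain ⟨g, hg⟩ : ∃ g : L, g⁻¹ * x * g ∈ C := by
    by_contra hall
    push Not at hall
    exact hxK (Or.inr fun g hmem => hall g (Cfsg.Agent.Lib.Frobenius.mem_conj_smul_iff.mp hmem))
  have h1 : g⁻¹ * x * g ≠ 1 := fun e => hx1 (by
    calc x = g * (g⁻¹ * x * g) * g⁻¹ := by group
      _ = 1 := by rw [e]; simp)
  have h2 : g⁻¹ * v * g ∈ C := Cfsg.Agent.Lib.Frobenius.centralizer_le hC hg h1
    (Subgroup.mem_centralizer_singleton_iff.mpr (by
      calc g⁻¹ * v * g * (g⁻¹ * x * g) = g⁻¹ * (v * x) * g := by group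
        _ = g⁻¹ * x * g * (g⁻¹ * v * g) := by rw [← hxv]; group))
  have h3 : g⁻¹ * v * g ∈ K := by simpa using hKn.conj_mem v hv g⁻¹
  have h4 : g⁻¹ * v * g ∈ K ⊓ C := ⟨h3, h2⟩
  rw [disjoint_iff.mp hKC.disjoint, Subgroup.mem_bot] at h4
  calc v = g * (g⁻¹ * v * g) * g⁻¹ := by group
    _ = 1 := by rw [h4]; simp

/-- A Frobenius complement has a fixed-point-free module in a characteristic prime to its order. -/
theorem hasFreeModule_of_isFrobeniusComplement [Finite L] {C : Subgroup L}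
    (hC : Cfsg.IsFrobeniusComplement C) :
    ∃ q : ℕ, q.Prime ∧ ¬ q ∣ Nat.card C ∧ HasFreeModule q C := by
  obtain ⟨q, hq, hqd⟩ := Nat.exists_prime_and_dvd (Cfsg.Agent.Lib.Frobenius.one_lt_index hC).ne'
  haveI : Fact q.Prime := ⟨hq⟩
  have hqC : ¬ q ∣ Nat.card C := fun h => hq.one_lt.ne'
    (Nat.eq_one_of_dvd_coprimes (Cfsg.Agent.Lib.Frobenius.coprime_card_index hC) h hqd)
  refine ⟨q, hq, hqC, ?_⟩
  obtain ⟨K, Q, X, hKn, -, hKC, -, hXN, ⟨e⟩, hfree⟩ := exists_invariant_sylow_kernel hC q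
  set Q' := (Q : Subgroup K).map K.subtype with hQ'
  have hqK : q ∣ Nat.card K := by rwa [hKC.index_eq_card] at hqd
  haveI hQnt : Nontrivial (Q : Subgroup K) :=
    (Subgroup.nontrivial_iff_ne_bot _).mpr (Q.ne_bot_of_dvd_card hqK)
  let A : Subgroup L :=
    { carrier := {v | v ∈ Q' ∧ (∀ w ∈ Q', v * w = w * v) ∧ v ^ q = 1}
      one_mem' := ⟨Q'.one_mem, fun w _ => by simp, one_pow q⟩
      mul_mem' := fun {a b} ha hb => ⟨Q'.mul_mem ha.1 hb.1,
        fun w hw => Commute.mul_left (show Commute a w from ha.2.1 w hw) (hb.2.1 w hw),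
        by rw [(show Commute a b from ha.2.1 b hb.1).mul_pow, ha.2.2, hb.2.2, one_mul]⟩
      inv_mem' := fun {a} ha => ⟨Q'.inv_mem ha.1,
        fun w hw => Commute.inv_left (show Commute a w from ha.2.1 w hw),
        by rw [inv_pow, ha.2.2, inv_one]⟩ }
  have hXA : X ≤ Subgroup.normalizer (A : Set L) := by
    intro x hx
    have key : ∀ y : L, y ∈ Subgroup.normalizer (Q' : Set L) → ∀ v ∈ A, y * v * y⁻¹ ∈ A := by
      intro y hy v hv
      refine ⟨(Subgroup.mem_normalizer_iff.mp hy v).mp hv.1, fun w hw => ?_, by rw [conj_pow, hv.2.2]; simp⟩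
      have hw' : y⁻¹ * w * y ∈ Q' := by
        simpa using (Subgroup.mem_normalizer_iff.mp (Subgroup.inv_mem _ hy) w).mp hw
      calc y * v * y⁻¹ * w = y * (v * (y⁻¹ * w * y)) * y⁻¹ := by group
        _ = w * (y * v * y⁻¹) := by rw [hv.2.1 _ hw']; group
    rw [Subgroup.mem_normalizer_iff]
    intro v
    refine ⟨key x (hXN hx) v, fun hv => ?_⟩
    have := key x⁻¹ (Subgroup.inv_mem _ (hXN hx)) _ hv
    simpa [mul_assoc] using this
  have hA1 : A ≠ ⊥ := by
    haveI := Q.isPGroup'.center_nontrivial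
    obtain ⟨z, hz⟩ := exists_prime_orderOf_dvd_card' (G := Subgroup.center (Q : Subgroup K)) q
      ((Q.isPGroup'.to_subgroup _).card_eq_or_dvd.resolve_left fun h1 =>
        absurd h1 (Finite.one_lt_card (α := Subgroup.center (Q : Subgroup K))).ne')
    intro hA
    have h1 : (((z : (Q : Subgroup K)) : K) : L) ∈ A := by
      refine ⟨⟨_, (z : (Q : Subgroup K)).2, rfl⟩, ?_, ?_⟩
      · rintro _ ⟨w, hw, rfl⟩
        exact congrArg (fun k : (Q : Subgroup K) => ((k : K) : L))
          (Subgroup.mem_center_iff.mp z.2 ⟨w, hw⟩).symm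
      · have h0 : z ^ q = 1 := orderOf_dvd_iff_pow_eq_one.mp hz.dvd
        exact congrArg (fun k : Subgroup.center (Q : Subgroup K) => (((k : (Q : Subgroup K)) : K) : L)) h0
    rw [hA, Subgroup.mem_bot] at h1
    have : z = 1 := Subtype.ext (Subtype.ext (Subtype.ext h1))
    rw [this, orderOf_one] at hz
    exact hq.one_lt.ne hz
  have := hasFreeModule_of_normalized X A hXA
    ⟨⟨fun a b => Subtype.ext (a.2.2.1 _ b.2.1)⟩⟩ hA1 (fun a ha => ha.2.2)
    (fun x hx hx1 a ha hc => hfree x hx hx1 a (Subgroup.map_subtype_le _ ha.1) hc)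
  exact this.comap e.toMonoidHom e.injective

end Cfsg.Agent.Lib.FrobRep
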