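import Mathlib
import Cfsg.Agent.Lib.FrobRep.Basic

/-!
Changing the characteristic of a fixed-point-free module.
-/

set_option autoImplicit false

namespace Cfsg.Agent.Lib.FrobRep

universe u

variable {H : Type u} [Group H]

/-- The left shift of functions on a group. -/
def shift (h : H) : AddMonoid.End (H → ℤ) where
  toFun f g := f (h⁻¹ * g)
  map_zero' := rfl
  map_add' _ _ := rfl

/-- The functions all of whose sums over cosets of nontrivial cyclic subgroups vanish. -/
noncomputable def freeLattice (H : Type u) [Group H] : AddSubgroup (H → ℤ) where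
  carrier := {f | ∀ c : H, c ≠ 1 → ∀ g : H, ∑ i ∈ Finset.range (orderOf c), f (c ^ i * g) = 0}
  zero_mem' := fun c _ g => by simp
  add_mem' := fun {a b} ha hb c hc g => by
    simp only [Pi.add_apply, Finset.sum_add_distrib, ha c hc g, hb c hc g, add_zero]
  neg_mem' := fun {a} ha c hc g => by
    simp only [Pi.neg_apply, Finset.sum_neg_distrib, ha c hc g, neg_zero]

theorem shift_mem_freeLattice (h : H) {f : H → ℤ} (hf : f ∈ freeLattice H) :
    shift h f ∈ freeLattice H := by
  intro c hc g
  have hcc : h⁻¹ * c * h ≠ 1 := fun e => hc (by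
    have := conj_eq_one_iff.mp (show h⁻¹ * c * h⁻¹⁻¹ = 1 by simpa using e)
    exact this)
  have ho : orderOf (h⁻¹ * c * h) = orderOf c := by
    have := MulEquiv.orderOf_eq (MulAut.conj h⁻¹) c
    simpa using this
  have := hf (h⁻¹ * c * h) hcc (h⁻¹ * g)
  rw [ho] at this
  refine Eq.trans (Finset.sum_congr rfl fun i _ => ?_) this
  show f (h⁻¹ * (c ^ i * g)) = f ((h⁻¹ * c * h) ^ i * (h⁻¹ * g))
  congr 1
  have hp : (h⁻¹ * c * h) ^ i = h⁻¹ * c ^ i * h := by
    have := conj_pow (a := h⁻¹) (b := c) (i := i)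
    simpa using this
  rw [hp]
  group

/-- The action on the lattice. -/
noncomputable def latticeAction (H : Type u) [Group H] : H →* AddMonoid.End (freeLattice H) where
  toFun h :=
    { toFun := fun f => ⟨shift h f, shift_mem_freeLattice h f.2⟩
      map_zero' := Subtype.ext (map_zero (shift h))
      map_add' := fun a b => Subtype.ext (map_add (shift h) (a : H → ℤ) b) }
  map_one' := AddMonoidHom.ext fun f => Subtype.ext (funext fun g => by
    show (f : H → ℤ) ((1 : H)⁻¹ * g) = (f : H → ℤ) g
    rw [inv_one, one_mul])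
  map_mul' a b := AddMonoidHom.ext fun f => Subtype.ext (funext fun g => by
    show (f : H → ℤ) ((a * b)⁻¹ * g) = (f : H → ℤ) (b⁻¹ * (a⁻¹ * g))
    rw [mul_inv_rev, mul_assoc])

theorem isFreeAction_lattice [Finite H] : IsFreeAction (latticeAction H) := by
  intro h hh f hf
  refine Subtype.ext (funext fun g => ?_)
  have h1 : ∀ g, (f : H → ℤ) (h⁻¹ * g) = (f : H → ℤ) g := fun g =>
    congrFun (congrArg Subtype.val hf) g
  have h2 : ∀ i : ℕ, (f : H → ℤ) (h⁻¹ ^ i * g) = (f : H → ℤ) g := by
    intro i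
    induction i with
    | zero => simp
    | succ i ih => rw [pow_succ', mul_assoc, h1, ih]
  have h3 := f.2 h⁻¹ (inv_ne_one.mpr hh) g
  rw [Finset.sum_congr rfl fun i _ => h2 i, Finset.sum_const, Finset.card_range, nsmul_eq_mul] at h3
  exact (mul_eq_zero.mp h3).resolve_left (by exact_mod_cast (orderOf_pos h⁻¹).ne')

open MonoidAlgebra in
/-- The norm of a cyclic subgroup in a group algebra, as a coefficient formula. -/
theorem coeff_norm_mul {R : Type*} [CommRing R] (c : H) (x : R[H]) (g : H) :
    ((∑ i ∈ Finset.range (orderOf c), single (c ^ i)⁻¹ (1 : R)) * x).coeff g =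
      ∑ i ∈ Finset.range (orderOf c), x.coeff (c ^ i * g) := by
  rw [Finset.sum_mul, coeff_sum, Finset.sum_apply']
  exact Finset.sum_congr rfl fun i _ => by simp

/-- An additive action on a `ZMod s`-module as a linear one. -/
noncomputable def zmodEnd (s : ℕ) {V : Type*} [AddCommGroup V] [Module (ZMod s) V]
    (ρ : H →* AddMonoid.End V) : H →* Module.End (ZMod s) V where
  toFun g := (AddMonoidHom.toZModLinearMap s (ρ g) : V →ₗ[ZMod s] V)
  map_one' := by
    ext v
    simp
    rfl
  map_mul' a b := by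
    ext v
    simp
    rfl

open MonoidAlgebra in
theorem exists_norm_annihilated_aux [Finite H] {s k : ℕ} [Fact s.Prime] (hk : k ≠ 0)
    (hsH : ¬ s ∣ Nat.card H) {V : Type} [AddCommGroup V] [Nontrivial V] [Module (ZMod s) V]
    (ρ : H →* AddMonoid.End V) (hfree : IsFreeAction ρ) :
    ∃ e : H → ZMod (s ^ k), (∀ c : H, c ≠ 1 → ∀ g : H,
        ∑ i ∈ Finset.range (orderOf c), e (c ^ i * g) = 0) ∧
      ∃ g : H, ZMod.castHom (dvd_pow_self s hk) (ZMod s) (e g) ≠ 0 := by
  classical
  haveI : NeZero (Nat.card H : ZMod s) := ⟨fun h0 => hsH ((ZMod.natCast_eq_zero_iff _ _).mp h0)⟩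
  let ρ' : H →* Module.End (ZMod s) V := zmodEnd s ρ
  let Φ : (ZMod s)[H] →ₐ[ZMod s] Module.End (ZMod s) V := MonoidAlgebra.lift (ZMod s) (Module.End (ZMod s) V) H ρ'
  obtain ⟨v₀, hv₀⟩ := exists_ne (0 : V)
  let L : Submodule (ZMod s)[H] (ZMod s)[H] :=
    { carrier := {x | Φ x v₀ = 0}
      zero_mem' := by simp
      add_mem' := fun {a b} ha hb => by
        show Φ (a + b) v₀ = 0
        rw [map_add, LinearMap.add_apply, ha, hb, add_zero]
      smul_mem' := fun c x hx => by
        show Φ (c * x) v₀ = 0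
        rw [map_mul, Module.End.mul_apply, hx, map_zero] }
  obtain ⟨W, hW⟩ := MonoidAlgebra.Submodule.exists_isCompl L
  obtain ⟨l, hl, e₁, he₁, hle⟩ : ∃ l ∈ L, ∃ e ∈ W, l + e = 1 :=
    Submodule.mem_sup.mp (hW.sup_eq_top ▸ Submodule.mem_top)
  have hidem : IsIdempotentElem e₁ := by
    have h1 : e₁ * l + e₁ * e₁ = e₁ := by rw [← mul_add, hle, mul_one]
    have h2 : e₁ * l ∈ L := L.smul_mem e₁ hl
    have h3 : e₁ * l ∈ W := by
      rw [show e₁ * l = e₁ - e₁ * e₁ from eq_sub_of_add_eq h1]
      exact W.sub_mem he₁ (W.smul_mem e₁ he₁)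
    have h4 := (Submodule.disjoint_def.mp hW.disjoint) _ h2 h3
    rw [h4, zero_add] at h1
    exact h1
  have hne : e₁ ≠ 0 := by
    rintro rfl
    rw [add_zero] at hle
    subst hle
    apply hv₀
    have := hl
    change Φ 1 v₀ = 0 at this
    rw [map_one] at this
    simpa using this
  -- no nonzero fixed points in `W`
  have hWfix : ∀ w : (ZMod s)[H], w ∈ W → ∀ c : H, c ≠ 1 → single c 1 * w = w → w = 0 := by
    intro w hw c hc hcw
    refine (Submodule.disjoint_def.mp hW.disjoint) w ?_ hw
    refine hfree c hc _ ?_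
    show ρ c (Φ w v₀) = Φ w v₀
    conv_rhs => rw [← hcw, map_mul, Module.End.mul_apply]
    simp [Φ, ρ', MonoidAlgebra.lift_single, zmodEnd]
    rfl
  let π := MonoidAlgebra.mapRingHom H (ZMod.castHom (dvd_pow_self s hk) (ZMod s))
  have hπs : Function.Surjective (ZMod.castHom (dvd_pow_self s hk) (ZMod s)) :=
    ZMod.ringHom_surjective _
  have hdiv : ∀ a : ZMod (s ^ k), ZMod.castHom (dvd_pow_self s hk) (ZMod s) a = 0 →
      ∃ b, a = (s : ZMod (s ^ k)) * b := by
    intro a ha
    haveI : NeZero (s ^ k) := ⟨pow_ne_zero k (Fact.out : s.Prime).ne_zero⟩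
    rw [← ZMod.natCast_zmod_val a, map_natCast, ZMod.natCast_eq_zero_iff] at ha
    obtain ⟨b, hb⟩ := ha
    exact ⟨b, by rw [← ZMod.natCast_zmod_val a, hb, Nat.cast_mul]⟩
  have hker : ∀ x : (ZMod (s ^ k))[H], π x = 0 → ∃ y, x = (s : ZMod (s ^ k)) • y := by
    intro x hx
    have hc : ∀ g, ∃ b, x.coeff g = (s : ZMod (s ^ k)) * b := fun g => hdiv _ (by
      rw [← MonoidAlgebra.coeff_mapRingHom]
      show (π x).coeff g = 0
      rw [hx]; simp)
    choose b hb using hc
    cases nonempty_fintype H
    refine ⟨∑ g, single g (b g), ?_⟩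
    rw [Finset.smul_sum]
    refine MonoidAlgebra.coeff_injective (Finsupp.ext fun g => ?_)
    rw [coeff_sum, Finset.sum_apply', hb g]
    simp [Finsupp.single_apply]
  have hnil : ∀ x ∈ RingHom.ker π, IsNilpotent x := by
    intro x hx
    obtain ⟨y, rfl⟩ := hker x hx
    refine ⟨k, ?_⟩
    rw [smul_pow, ← Nat.cast_pow, ZMod.natCast_self, zero_smul]
  obtain ⟨e, he, hee⟩ := exists_isIdempotentElem_eq_of_ker_isNilpotent π hnil e₁ (by
    have hc : ∀ g, ∃ a, ZMod.castHom (dvd_pow_self s hk) (ZMod s) a = e₁.coeff g := fun g => hπs _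
    choose a ha using hc
    cases nonempty_fintype H
    refine ⟨∑ g, single g (a g), ?_⟩
    refine MonoidAlgebra.coeff_injective (Finsupp.ext fun g => ?_)
    show (π _).coeff g = _
    rw [MonoidAlgebra.coeff_mapRingHom, coeff_sum, Finset.sum_apply']
    simp [Finsupp.single_apply, ha]) hidem
  -- no nonzero fixed points in the left ideal generated by `e`
  have hfix : ∀ v : (ZMod (s ^ k))[H], v * e = v → ∀ c : H, c ≠ 1 → single c 1 * v = v → v = 0 := by
    intro v hv c hc hcv
    have hstep : ∀ j ≤ k, ∃ w, v = ((s : ZMod (s ^ k)) ^ j) • w := by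
      intro j hj
      induction j with
      | zero => exact ⟨v, by simp⟩
      | succ j ih =>
        obtain ⟨w, hw⟩ := ih (by omega)
        set u := w * e with hu
        have hvu : v = ((s : ZMod (s ^ k)) ^ j) • u := by
          rw [← hv, hw, smul_mul_assoc]
        have hzero : ((s : ZMod (s ^ k)) ^ j) • (single c 1 * u - u) = 0 := by
          rw [smul_sub, ← mul_smul_comm, ← hvu, hcv, sub_self]
        have hmod : π (single c 1 * u - u) = 0 := by
          refine MonoidAlgebra.coeff_injective (Finsupp.ext fun g => ?_)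
          rw [MonoidAlgebra.coeff_mapRingHom]
          have h1 : ((s : ZMod (s ^ k)) ^ j) * (single c 1 * u - u).coeff g = 0 := by
            have := congrArg (fun z : (ZMod (s ^ k))[H] => z.coeff g) hzero
            simpa using this
          generalize (single c 1 * u - u).coeff g = a at h1 ⊢
          haveI : NeZero (s ^ k) := ⟨pow_ne_zero k (Fact.out : s.Prime).ne_zero⟩
          rw [← ZMod.natCast_zmod_val a, ← Nat.cast_pow, ← Nat.cast_mul,
            ZMod.natCast_eq_zero_iff] at h1
          have h2 : s ^ j * s ∣ s ^ j * a.val := by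
            rw [← pow_succ]
            exact (pow_dvd_pow s (show j + 1 ≤ k by omega)).trans h1
          have h3 := Nat.dvd_of_mul_dvd_mul_left (pow_pos (Fact.out : s.Prime).pos j) h2
          rw [← ZMod.natCast_zmod_val a, map_natCast]
          exact (ZMod.natCast_eq_zero_iff _ _).mpr h3
        have hmem : π u ∈ W := by
          rw [hu, map_mul, hee]
          exact W.smul_mem _ he₁
        have hu0 : π u = 0 := hWfix _ hmem c hc (by
          rw [map_sub, map_mul, sub_eq_zero] at hmod
          have e1 : π (single c 1) = single c 1 := by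
            show MonoidAlgebra.map _ (single c 1) = _
            rw [MonoidAlgebra.map_single]
            congr 1
            exact map_one (ZMod.castHom (dvd_pow_self s hk) (ZMod s))
          rwa [e1] at hmod)
        obtain ⟨y, hy⟩ := hker u hu0
        exact ⟨y, by rw [hvu, hy, smul_smul, pow_succ]⟩
    obtain ⟨w, hw⟩ := hstep k le_rfl
    rw [hw, ← Nat.cast_pow, ZMod.natCast_self, zero_smul]
  refine ⟨fun g => e.coeff g, fun c hc g => ?_, ?_⟩
  · rw [← coeff_norm_mul]
    have : (∑ i ∈ Finset.range (orderOf c), single (c ^ i)⁻¹ (1 : ZMod (s ^ k))) * e = 0 := by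
      refine hfix _ (by rw [mul_assoc, he.eq]) c⁻¹ (inv_ne_one.mpr hc) ?_
      rw [← mul_assoc, Finset.mul_sum]
      congr 1
      have hstep : ∀ i, single c⁻¹ (1 : ZMod (s ^ k)) * single (c ^ i)⁻¹ 1 = single (c ^ (i + 1))⁻¹ 1 := by
        intro i
        rw [single_mul_single, one_mul, ← mul_inv_rev, ← pow_succ]
      rw [Finset.sum_congr rfl fun i _ => hstep i]
      have h3 := Finset.sum_range_succ (fun i => single (c ^ i)⁻¹ (1 : ZMod (s ^ k))) (orderOf c)
      rw [Finset.sum_range_succ', pow_zero, pow_orderOf_eq_one] at h3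
      exact add_right_cancel h3
    rw [this]; simp
  · by_contra hall
    push Not at hall
    refine hne (MonoidAlgebra.coeff_injective (Finsupp.ext fun g => ?_))
    rw [← hee, MonoidAlgebra.coeff_mapRingHom]
    simpa using hall g

/-- For every `k`, some element of `(ℤ/sᵏ)[H]` outside the radical is killed by all norms. -/
theorem exists_norm_annihilated [Finite H] {s k : ℕ} [Fact s.Prime] (hk : k ≠ 0)
    (hsH : ¬ s ∣ Nat.card H) (h : HasFreeModule s H) :
    ∃ e : H → ZMod (s ^ k), (∀ c : H, c ≠ 1 → ∀ g : H,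
        ∑ i ∈ Finset.range (orderOf c), e (c ^ i * g) = 0) ∧
      ∃ g : H, ZMod.castHom (dvd_pow_self s hk) (ZMod s) (e g) ≠ 0 := by
  obtain ⟨V, _, _, _, ρ, hs, hfree⟩ := h
  exact @exists_norm_annihilated_aux _ _ _ s k _ hk hsH V _ _ (AddCommGroup.zmodModule hs) ρ hfree

/-- The lattice is nonzero as soon as one fixed-point-free module exists. -/
theorem freeLattice_ne_bot [Finite H] {s : ℕ} (hs : s.Prime) (hsH : ¬ s ∣ Nat.card H)
    (h : HasFreeModule s H) : freeLattice H ≠ ⊥ := by
  classical
  cases nonempty_fintype H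
  intro hbot
  let T : Matrix ({c : H // c ≠ 1} × H) H ℤ := fun cg h =>
    ((Finset.range (orderOf cg.1.1)).filter fun i => cg.1.1 ^ i * cg.2 = h).card
  have hT : ∀ {S : Type} [CommRing S] (f : H → S) (cg : {c : H // c ≠ 1} × H),
      ((T.map (Int.castRingHom S)).mulVec f) cg =
        ∑ i ∈ Finset.range (orderOf cg.1.1), f (cg.1.1 ^ i * cg.2) := by
    intro S _ f cg
    simp only [Matrix.mulVec, dotProduct, Matrix.map_apply, T]
    rw [← Finset.sum_fiberwise (Finset.range (orderOf cg.1.1)) (fun i => cg.1.1 ^ i * cg.2)]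
    refine Finset.sum_congr rfl fun h _ => ?_
    rw [Finset.sum_congr rfl (g := fun _ => f h) (fun i hi => by rw [(Finset.mem_filter.mp hi).2]),
      Finset.sum_const, nsmul_eq_mul]
    show ((Int.castRingHom S) _) * f h = _
    simp
  let M : Matrix H H ℤ := T.transpose * T
  have hdet : M.det ≠ 0 := by
    intro hd
    obtain ⟨v, hv, hv0⟩ := Matrix.exists_mulVec_eq_zero_iff.mpr hd
    have hTv : T.mulVec v = 0 := by
      have h1 : dotProduct v (M.mulVec v) = 0 := by rw [hv0, dotProduct_zero]
      rw [← Matrix.mulVec_mulVec, Matrix.dotProduct_mulVec, Matrix.vecMul_transpose] at h1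
      exact dotProduct_self_eq_zero.mp h1
    have hmem : v ∈ freeLattice H := by
      intro c hc g
      have := hT (S := ℤ) v (⟨c, hc⟩, g)
      rw [show (T.map (Int.castRingHom ℤ)) = T from by ext; simp, hTv] at this
      simpa using this.symm
    rw [hbot, AddSubgroup.mem_bot] at hmem
    exact hv hmem
  haveI : Fact s.Prime := ⟨hs⟩
  set k := M.det.natAbs + 1 with hk
  obtain ⟨e, he, g, hg⟩ := exists_norm_annihilated (k := k) (Nat.succ_ne_zero _) hsH h
  have hTe : (T.map (Int.castRingHom (ZMod (s ^ k)))).mulVec e = 0 := funext fun cg => by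
    rw [hT e cg]; exact he cg.1.1 cg.1.2 cg.2
  have hMe : (M.map (Int.castRingHom (ZMod (s ^ k)))).mulVec e = 0 := by
    rw [Matrix.map_mul, ← Matrix.mulVec_mulVec, hTe, Matrix.mulVec_zero]
  have hde : ((M.det : ℤ) : ZMod (s ^ k)) * e g = 0 := by
    have h1 := congrArg (fun v => ((M.map (Int.castRingHom (ZMod (s ^ k)))).adjugate.mulVec v) g) hMe
    simp only [Matrix.mulVec_zero, Pi.zero_apply, Matrix.mulVec_mulVec, Matrix.adjugate_mul] at h1
    rw [← RingHom.mapMatrix_apply, ← RingHom.map_det] at h1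
    simpa [Matrix.smul_mulVec] using h1
  haveI : NeZero (s ^ k) := ⟨pow_ne_zero k hs.ne_zero⟩
  have h2 : (s ^ k : ℤ) ∣ M.det * ((e g).val : ℤ) := by
    rw [← Nat.cast_pow, ← ZMod.intCast_zmod_eq_zero_iff_dvd]
    push_cast
    rw [ZMod.natCast_zmod_val]
    convert hde using 2
    all_goals first | rfl | exact (RingHom.map_det (Int.castRingHom (ZMod (s ^ k))) M).symm
  have h3 : s ^ k ∣ M.det.natAbs * (e g).val := by
    have := Int.natAbs_dvd_natAbs.mpr h2
    rw [Int.natAbs_mul, Int.natAbs_pow, Int.natAbs_natCast, Int.natAbs_natCast] at this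
    exact this
  have h4 : s ^ k ∣ M.det.natAbs := by
    refine (Nat.Coprime.pow_left k ((hs.coprime_iff_not_dvd).mpr fun hd => hg ?_)).dvd_of_dvd_mul_right h3
    rw [← ZMod.natCast_zmod_val (e g), map_natCast, ZMod.natCast_eq_zero_iff]
    exact hd
  exact absurd (Nat.le_of_dvd (Int.natAbs_pos.mpr hdet) h4)
    (not_le.mpr ((Nat.lt_succ_self _).trans (Nat.lt_pow_self hs.one_lt)))

/-- Fixed-point-free modules exist in one coprime characteristic iff in every one. -/
theorem HasFreeModule.change_prime [Finite H] {s t : ℕ} (hs : s.Prime) (hsH : ¬ s ∣ Nat.card H)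
    (ht : t.Prime) (htH : ¬ t ∣ Nat.card H) (h : HasFreeModule s H) : HasFreeModule t H := by
  haveI : Nontrivial (freeLattice H) := (AddSubgroup.nontrivial_iff_ne_bot _).mpr
    (freeLattice_ne_bot hs hsH h)
  haveI : AddGroup.FG (freeLattice H) := by
    rw [← Module.Finite.iff_addGroup_fg]
    cases nonempty_fintype H
    exact Module.Finite.of_injective ((freeLattice H).subtype.toIntLinearMap)
      Subtype.coe_injective
  exact hasFreeModule_of_lattice (latticeAction H) isFreeAction_lattice ht htH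

end Cfsg.Agent.Lib.FrobRep
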