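import Mathlib
import Cfsg.Agent.Lib.FrobRep.Lifting
import Cfsg.Agent.Lib.FrobRep.FromComplement

/-!
Constructions of Frobenius complements: subgroups of `SL₂`, of division rings, direct products.
-/

set_option autoImplicit false

namespace Cfsg.Agent.Lib.FrobRep

universe u v

variable {H : Type u} [Group H] [Finite H]

theorem eq_one_of_fixed {F : Type*} [Field F] (g : Matrix.SpecialLinearGroup (Fin 2) F) {n : ℕ}
    (hn : (n : F) ≠ 0) (hg : g ^ n = 1) {v : Fin 2 → F} (hv : v ≠ 0)
    (hgv : (g : Matrix (Fin 2) (Fin 2) F).mulVec v = v) : g = 1 := by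
  set A : Matrix (Fin 2) (Fin 2) F := (g : Matrix (Fin 2) (Fin 2) F) with hA
  set N : Matrix (Fin 2) (Fin 2) F := A - 1 with hN
  have hdet : N.det = 0 := by
    refine Matrix.exists_mulVec_eq_zero_iff.mp ⟨v, hv, ?_⟩
    rw [hN, Matrix.sub_mulVec, Matrix.one_mulVec, hgv, sub_self]
  have h1 : A.det = 1 := g.2
  rw [hN, Matrix.det_fin_two] at hdet
  rw [Matrix.det_fin_two] at h1
  simp at hdet
  have hN2 : N * N = 0 := by
    ext i j
    rw [Matrix.mul_apply, Fin.sum_univ_two, hN]
    fin_cases i <;> fin_cases j <;> simp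
    · linear_combination (-(A 0 0)) * hdet + (A 0 0 - 1) * h1
    · linear_combination (-(A 0 1)) * hdet + (A 0 1) * h1
    · linear_combination (-(A 1 0)) * hdet + (A 1 0) * h1
    · linear_combination (-(A 1 1)) * hdet + (A 1 1 - 1) * h1
  have hAk : ∀ k : ℕ, A ^ k = 1 + (k : F) • N := by
    intro k
    induction k with
    | zero => simp
    | succ k ih =>
      rw [pow_succ, ih, show A = 1 + N by rw [hN]; abel, add_mul, one_mul, smul_mul_assoc, mul_add, mul_one,
        hN2, add_zero, Nat.cast_succ, add_smul, one_smul]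
      abel
  have h2 : A ^ n = 1 := by
    rw [hA, ← Matrix.SpecialLinearGroup.coe_pow, hg, Matrix.SpecialLinearGroup.coe_one]
  rw [hAk, add_eq_left, smul_eq_zero, or_iff_right hn, hN, sub_eq_zero] at h2
  exact Subtype.ext h2

/-- A finite group embedded in `SL₂` of a finite field of coprime characteristic is a Frobenius
complement. -/
theorem exists_complement_of_SL2 [Nontrivial H] {F : Type v} [Field F] [Finite F]
    (φ : H →* Matrix.SpecialLinearGroup (Fin 2) F) (hφ : Function.Injective φ)
    (hc : (Nat.card H : F) ≠ 0) :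
    ∃ (L : Type) (_ : Group L) (_ : Finite L) (C : Subgroup L),
      Cfsg.IsFrobeniusComplement C ∧ Nonempty (H ≃* C) := by
  let ρ : H →* AddMonoid.End (Fin 2 → F) :=
    { toFun := fun h => ((φ h : Matrix (Fin 2) (Fin 2) F).mulVecLin).toAddMonoidHom
      map_one' := AddMonoidHom.ext fun v => by
        show (φ 1 : Matrix (Fin 2) (Fin 2) F).mulVec v = v
        rw [map_one, Matrix.SpecialLinearGroup.coe_one, Matrix.one_mulVec]
      map_mul' := fun a b => AddMonoidHom.ext fun v => by
        show (φ (a * b) : Matrix (Fin 2) (Fin 2) F).mulVec v = (φ a : Matrix (Fin 2) (Fin 2) F).mulVec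
          ((φ b : Matrix (Fin 2) (Fin 2) F).mulVec v)
        rw [map_mul, Matrix.SpecialLinearGroup.coe_mul, Matrix.mulVec_mulVec] }
  refine exists_complement_of_free ρ fun h hh v hv => ?_
  by_contra hv0
  exact hh (hφ ((eq_one_of_fixed (φ h) hc (by rw [← map_pow, pow_card_eq_one', map_one]) hv0 hv).trans
    (map_one φ).symm))

/-- A nontrivial finite subgroup of the units of a division ring is a Frobenius complement. -/
theorem exists_complement_of_units [Nontrivial H] {D : Type v} [DivisionRing D] (φ : H →* Dˣ)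
    (hφ : Function.Injective φ) :
    ∃ (L : Type) (_ : Group L) (_ : Finite L) (C : Subgroup L),
      Cfsg.IsFrobeniusComplement C ∧ Nonempty (H ≃* C) := by
  let Λ : AddSubgroup D := AddSubgroup.closure (Set.range fun h : H => (φ h : D))
  have hmul : ∀ h : H, ∀ x ∈ Λ, (φ h : D) * x ∈ Λ := fun h x hx => by
    induction hx using AddSubgroup.closure_induction with
    | mem y hy =>
      obtain ⟨k, rfl⟩ := hy
      exact AddSubgroup.subset_closure ⟨h * k, by simp⟩
    | zero => simp
    | add a b _ _ ha hb => rw [mul_add]; exact Λ.add_mem ha hb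
    | neg a _ ha => rw [mul_neg]; exact Λ.neg_mem ha
  let ρ : H →* AddMonoid.End Λ :=
    { toFun := fun h =>
        { toFun := fun x => ⟨(φ h : D) * x, hmul h x x.2⟩
          map_zero' := Subtype.ext (mul_zero _)
          map_add' := fun a b => Subtype.ext (mul_add _ _ _) }
      map_one' := AddMonoidHom.ext fun x => Subtype.ext (by
        show (φ 1 : D) * x = x
        rw [map_one, Units.val_one, one_mul])
      map_mul' := fun a b => AddMonoidHom.ext fun x => Subtype.ext (by
        show (φ (a * b) : D) * x = (φ a : D) * ((φ b : D) * x)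
        rw [map_mul, Units.val_mul, mul_assoc]) }
  have hf : IsFreeAction ρ := by
    intro h hh x hx
    have h1 : (φ h : D) * x = x := congrArg Subtype.val hx
    by_contra hx0
    have hx0' : (x : D) ≠ 0 := fun e => hx0 (Subtype.ext e)
    have : (φ h : D) = 1 := mul_right_cancel₀ hx0' (h1.trans (one_mul _).symm)
    exact hh (hφ ((Units.ext this).trans (map_one φ).symm))
  haveI : AddGroup.FG Λ :=
    AddGroup.fg_iff_addSubgroup_fg Λ |>.mpr ((AddSubgroup.fg_iff Λ).mpr ⟨_, rfl, Set.finite_range _⟩)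
  haveI : Nontrivial Λ :=
    ⟨⟨(φ 1 : D), AddSubgroup.subset_closure ⟨1, rfl⟩⟩, 0, fun e =>
      (φ 1).ne_zero (congrArg Subtype.val e)⟩
  by_cases hp : ringChar D = 0
  · haveI : CharZero D := (CharP.ringChar_zero_iff_CharZero D).mp hp
    obtain ⟨s, hsH, hs⟩ := Nat.exists_infinite_primes (Nat.card H + 1)
    exact (hasFreeModule_of_lattice ρ hf hs fun hd =>
      absurd (Nat.le_of_dvd Nat.card_pos hd) (by omega)).exists_complement
  · haveI : Finite Λ := AddCommGroup.finite_of_fg_isAddTorsion _ fun x =>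
      isOfFinAddOrder_iff_nsmul_eq_zero.mpr ⟨ringChar D, Nat.pos_of_ne_zero hp,
        Subtype.ext (by rw [AddSubgroup.coe_nsmul, nsmul_eq_mul, ringChar.Nat.cast_ringChar, zero_mul,
          AddSubgroup.coe_zero])⟩
    exact exists_complement_of_free ρ hf

theorem nontrivial_addMonoidHom {V W : Type} {s : ℕ} [Fact s.Prime] [AddCommGroup V] [AddCommGroup W]
    [Nontrivial V] [Nontrivial W] [Module (ZMod s) V] [Module (ZMod s) W] : Nontrivial (W →+ V) := by
  obtain ⟨v, hv⟩ := exists_ne (0 : V)
  let b := Module.Free.chooseBasis (ZMod s) W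
  obtain ⟨i⟩ := b.index_nonempty
  refine ⟨(b.constr (ZMod s) (fun _ => v)).toAddMonoidHom, 0, fun e => hv ?_⟩
  have := DFunLike.congr_fun e (b i)
  simpa using this

/-- Products of coprime groups with modules in one characteristic. -/
theorem HasFreeModule.prod {A : Type u} {B : Type v} [Group A] [Group B] [Finite A] [Finite B]
    {s : ℕ} [Fact s.Prime] (hcop : (Nat.card A).Coprime (Nat.card B))
    (hA : HasFreeModule s A) (hB : HasFreeModule s B) : HasFreeModule s (A × B) := by
  obtain ⟨V, _, _, _, ρ, hsV, hρ⟩ := hA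
  obtain ⟨W, _, _, _, σ, hsW, hσ⟩ := hB
  haveI : Finite (W →+ V) := DFunLike.finite _
  haveI : Nontrivial (W →+ V) := @nontrivial_addMonoidHom _ _ s _ _ _ _ _
    (AddCommGroup.zmodModule hsV) (AddCommGroup.zmodModule hsW)
  let τ : A × B →* AddMonoid.End (W →+ V) :=
    { toFun := fun x =>
        { toFun := fun f => ((ρ x.1 : V →+ V).comp f).comp (σ x.2⁻¹ : W →+ W)
          map_zero' := AddMonoidHom.ext fun w => map_zero (ρ x.1)
          map_add' := fun f g => AddMonoidHom.ext fun w => map_add (ρ x.1) _ _ }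
      map_one' := AddMonoidHom.ext fun f => AddMonoidHom.ext fun w => by
        show ρ (1 : A × B).1 (f (σ (1 : A × B).2⁻¹ w)) = f w
        rw [Prod.fst_one, Prod.snd_one, inv_one, map_one, map_one]; rfl
      map_mul' := fun x y => AddMonoidHom.ext fun f => AddMonoidHom.ext fun w => by
        show ρ (x * y).1 (f (σ (x * y).2⁻¹ w)) = ρ x.1 (ρ y.1 (f (σ y.2⁻¹ (σ x.2⁻¹ w))))
        rw [Prod.fst_mul, Prod.snd_mul, mul_inv_rev, map_mul, map_mul]; rfl }
  refine hasFreeModule_of τ (fun f => AddMonoidHom.ext fun w => hsV (f w)) ?_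
  intro x hx f hf
  have hpow : ∀ n : ℕ, τ (x ^ n) f = f := by
    intro n
    induction n with
    | zero => rw [pow_zero, map_one]; rfl
    | succ n ih =>
      rw [pow_succ, map_mul]
      show τ (x ^ n) (τ x f) = f
      rw [hf, ih]
  by_cases ha : x.1 = 1
  · have hb : x.2 ≠ 1 := fun e => hx (Prod.ext ha e)
    refine AddMonoidHom.ext fun w => ?_
    let D : W →+ W :=
      { toFun := fun z => σ x.2⁻¹ z - z
        map_zero' := by simp
        map_add' := fun a b => by rw [map_add]; abel }
    have hinj : Function.Injective D := by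
      rw [injective_iff_map_eq_zero]
      intro z hz
      refine hσ x.2⁻¹ (inv_ne_one.mpr hb) z ?_
      exact sub_eq_zero.mp (show σ x.2⁻¹ z - z = 0 from hz)
    obtain ⟨z, rfl⟩ := (Finite.injective_iff_surjective.mp hinj) w
    have h1 : ρ x.1 (f (σ x.2⁻¹ z)) = f z := DFunLike.congr_fun hf z
    rw [ha, map_one] at h1
    show f (σ x.2⁻¹ z - z) = (0 : V)
    rw [map_sub, sub_eq_zero]
    exact h1
  · set n := orderOf x.2
    have hn : x.1 ^ n ≠ 1 := fun e => ha (orderOf_eq_one_iff.mp
      (Nat.eq_one_of_dvd_coprimes hcop (orderOf_dvd_natCard _)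
        ((orderOf_dvd_of_pow_eq_one e).trans (orderOf_dvd_natCard x.2))))
    refine AddMonoidHom.ext fun w => hρ (x.1 ^ n) hn (f w) ?_
    have h1 : ρ (x ^ n).1 (f (σ (x ^ n).2⁻¹ w)) = f w := DFunLike.congr_fun (hpow n) w
    rw [Prod.pow_fst, Prod.pow_snd, pow_orderOf_eq_one, inv_one, map_one] at h1
    exact h1

end Cfsg.Agent.Lib.FrobRep
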